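import Cfsg.Agent.Zsigmondy.Main

/-!
Numerical lemmas on primitive prime divisors of `2^(2m) - 1` and Fermat and Mersenne primes.
-/

set_option autoImplicit false

namespace CfsgLib.PrimeGraphPSLTwo

open CfsgLib.Zsigmondy

theorem dvd_gcd_exp {r a b : ℕ} (ha : r ∣ 2 ^ a - 1) (hb : r ∣ 2 ^ b - 1) :
    r ∣ 2 ^ Nat.gcd a b - 1 := by
  rw [← Nat.pow_sub_one_gcd_pow_sub_one]
  exact Nat.dvd_gcd ha hb

theorem prim_dvd {r n k : ℕ} (hn : 0 < n) (hr : IsPPD r 2 n) (hk : r ∣ 2 ^ k - 1) : n ∣ k := by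
  have hg := dvd_gcd_exp hr.2.1 hk
  rcases lt_or_eq_of_le (Nat.gcd_le_left k hn) with h | h
  · exact absurd hg (hr.2.2 _ (Nat.gcd_pos_of_pos_left _ hn) h)
  · exact h ▸ Nat.gcd_dvd_right n k

theorem dvd_pow_two_mul_sub_one {r k : ℕ} (h : r ∣ 2 ^ k + 1) : r ∣ 2 ^ (2 * k) - 1 := by
  have h1 : 1 ≤ 2 ^ k := Nat.one_le_two_pow
  have : 2 ^ (2 * k) - 1 = (2 ^ k + 1) * (2 ^ k - 1) := by
    rw [mul_comm 2 k, pow_mul, ← Nat.sq_sub_sq, one_pow]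
  rw [this]
  exact dvd_mul_of_dvd_left h _

theorem ne_two_of_dvd {r n : ℕ} (hn : 0 < n) (h : r ∣ 2 ^ n - 1) : r ≠ 2 := by
  rintro rfl
  have h1 : 2 ∣ 2 ^ n := dvd_pow_self 2 hn.ne'
  have h2 : 1 ≤ 2 ^ n := Nat.one_le_two_pow
  omega

theorem three_dvd_of_even {n : ℕ} (hn : Even n) : 3 ∣ 2 ^ n - 1 := by
  obtain ⟨j, rfl⟩ := hn
  have := Nat.sub_dvd_pow_sub_pow 4 1 j
  rw [one_pow, show (4 : ℕ) ^ j = 2 ^ (j + j) by rw [← two_mul, pow_mul]; norm_num] at this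
  exact this

/-- A Fermat prime `2^k + 1` dividing `2^n - 1` forces `2k ∣ n`. -/
theorem two_mul_dvd_of_fermat {p k n : ℕ} (hp : p.Prime) (hk : 1 ≤ k) (he : p = 2 ^ k + 1)
    (hd : p ∣ 2 ^ n - 1) : 2 * k ∣ n := by
  have h2 : p ∣ 2 ^ Nat.gcd (2 * k) n - 1 :=
    dvd_gcd_exp (dvd_pow_two_mul_sub_one (dvd_of_eq he)) hd
  have hg : Nat.gcd (2 * k) n ∣ 2 * k := Nat.gcd_dvd_left _ _
  have hpos : 0 < Nat.gcd (2 * k) n := Nat.gcd_pos_of_pos_left _ (by omega)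
  have hbig : k < Nat.gcd (2 * k) n := by
    by_contra hle
    push Not at hle
    have h3 : 2 ^ Nat.gcd (2 * k) n ≤ 2 ^ k := Nat.pow_le_pow_right (by norm_num) hle
    have h4 : 2 ≤ 2 ^ Nat.gcd (2 * k) n := Nat.le_self_pow hpos.ne' 2
    have h5 := Nat.le_of_dvd (by omega) h2
    omega
  obtain ⟨c, hc⟩ := hg
  have : c = 1 := by
    rcases c with _ | _ | c
    · omega
    · rfl
    · have : Nat.gcd (2 * k) n * 2 ≤ Nat.gcd (2 * k) n * (c + 1 + 1) := Nat.mul_le_mul_left _ (by omega)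
      omega
  have h6 : Nat.gcd (2 * k) n = 2 * k := by
    rw [this, mul_one] at hc
    exact hc.symm
  exact h6 ▸ Nat.gcd_dvd_right _ _

/-- A Mersenne prime `2^k - 1` dividing `2^n - 1` forces `k ∣ n`. -/
theorem dvd_of_mersenne {p k n : ℕ} (hp : p.Prime) (he : p + 1 = 2 ^ k)
    (hd : p ∣ 2 ^ n - 1) : k ∣ n := by
  have h2 : p ∣ 2 ^ Nat.gcd k n - 1 := dvd_gcd_exp (dvd_of_eq (by omega)) hd
  have hk : 1 ≤ k := by
    rcases Nat.eq_zero_or_pos k with rfl | h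
    · have := hp.two_le; simp at he; omega
    · exact h
  have hpos : 0 < Nat.gcd k n := Nat.gcd_pos_of_pos_left _ hk
  rcases lt_or_eq_of_le (Nat.gcd_le_left n hk) with h | h
  · exfalso
    have h3 : 2 ^ Nat.gcd k n < 2 ^ k := Nat.pow_lt_pow_right (by norm_num) h
    have h4 : 2 ≤ 2 ^ Nat.gcd k n := Nat.le_self_pow hpos.ne' 2
    have h5 := Nat.le_of_dvd (by omega) h2
    omega
  · exact h ▸ Nat.gcd_dvd_right _ _

/-- `2k` does not divide a non-zero number below it, in the form used for `2^(k-1) + 1`. -/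
theorem fermat_no_second {k j : ℕ} (hk : 2 ≤ k) (hj : k ∣ j) (hj' : j ∣ k - 1) : False := by
  have := Nat.le_of_dvd (by omega) (hj.trans hj')
  omega

end CfsgLib.PrimeGraphPSLTwo
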