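import Cfsg.Agent.SL2.Elements
import Cfsg.Agent.Classical.Linear.Card
import Cfsg.Agent.PrimeGraphPSLTwo.Arith

/-!
The prime graph of `PSL₂(2^m)`.
-/

set_option autoImplicit false

namespace CfsgLib.PrimeGraphPSLTwo

open CfsgLib.SL2

variable {F : Type*} [Field F] [Fintype F] [CharP F 2]

theorem nonempty_sl_equiv_psl :
    Nonempty (Matrix.SpecialLinearGroup (Fin 2) F ≃* Matrix.ProjectiveSpecialLinearGroup (Fin 2) F) :=
  ⟨(QuotientGroup.quotientBot.symm).trans (QuotientGroup.quotientMulEquivOfEq center_eq_bot.symm)⟩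

theorem orderOf_cases_psl (x : Matrix.ProjectiveSpecialLinearGroup (Fin 2) F) :
    orderOf x ∣ Fintype.card F - 1 ∨ orderOf x ∣ Fintype.card F + 1 ∨ orderOf x ∣ 2 * 2 := by
  haveI : Fact (Nat.Prime 2) := ⟨Nat.prime_two⟩
  obtain ⟨e⟩ := nonempty_sl_equiv_psl (F := F)
  rw [← MulEquiv.orderOf_eq e.symm x]
  exact orderOf_dvd_cases _

theorem card_psl_even {m : ℕ} (hm : 1 ≤ m) (hF : Fintype.card F = 2 ^ m) :
    Nat.card (Matrix.ProjectiveSpecialLinearGroup (Fin 2) F) = 2 ^ m * (2 ^ (2 * m) - 1) := by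
  obtain ⟨e⟩ := nonempty_sl_equiv_psl (F := F)
  rw [← Nat.card_congr e.toEquiv, Classical.Linear.card_sl_two, hF, ← pow_mul, mul_comm m 2]

theorem no_orderOf_two_mul_psl {m : ℕ} (hm : 1 ≤ m) (hF : Fintype.card F = 2 ^ m) {r : ℕ}
    (hr : r.Prime) (hr2 : r ≠ 2) (x : Matrix.ProjectiveSpecialLinearGroup (Fin 2) F) :
    orderOf x ≠ 2 * r := by
  intro hx
  have h1 : 1 ≤ 2 ^ m := Nat.one_le_two_pow
  have h2 : 2 ∣ 2 ^ m := dvd_pow_self 2 (by omega)
  rcases orderOf_cases_psl x with h | h | h <;> rw [hx] at h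
  · have := (dvd_mul_right 2 r).trans h; rw [hF] at this; omega
  · have := (dvd_mul_right 2 r).trans h; rw [hF] at this; omega
  · exact hr2 ((Nat.prime_dvd_prime_iff_eq hr Nat.prime_two).1
      ((Nat.mul_dvd_mul_iff_left two_pos).1 h))

theorem no_orderOf_split_psl {m : ℕ} (hm : 1 ≤ m) (hF : Fintype.card F = 2 ^ m) {r s : ℕ}
    (hr : r.Prime) (hs : s.Prime) (hrd : r ∣ 2 ^ m - 1) (hsd : s ∣ 2 ^ m + 1)
    (x : Matrix.ProjectiveSpecialLinearGroup (Fin 2) F) : orderOf x ≠ r * s := by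
  intro hx
  have h1 : 1 ≤ 2 ^ m := Nat.one_le_two_pow
  have h2 : 2 ∣ 2 ^ m := dvd_pow_self 2 (by omega)
  have key : ∀ p : ℕ, p.Prime → p ∣ 2 ^ m - 1 → p ∣ 2 ^ m + 1 → False := by
    intro p hp ha hb
    have h3 := Nat.dvd_sub hb ha
    rw [show 2 ^ m + 1 - (2 ^ m - 1) = 2 by omega] at h3
    obtain rfl := (Nat.prime_dvd_prime_iff_eq hp Nat.prime_two).1 h3
    omega
  rcases orderOf_cases_psl x with h | h | h <;> rw [hx] at h
  · rw [hF] at h
    exact key s hs ((dvd_mul_left s r).trans h) hsd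
  · rw [hF] at h
    exact key r hr hrd ((dvd_mul_right r s).trans h)
  · have h3 : r ∣ 2 ^ 2 := (dvd_mul_right r s).trans h
    obtain rfl := (Nat.prime_dvd_prime_iff_eq hr Nat.prime_two).1 (hr.dvd_of_dvd_pow h3)
    omega

end CfsgLib.PrimeGraphPSLTwo
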